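import Groth.Agent.KRR40.ProjFormula
import Groth.Agent.Props58.HomO

/-!
# Modules killed by the ideal of a closed subscheme are direct images
-/

set_option autoImplicit false
set_option linter.style.haveILetI false
set_option backward.isDefEq.respectTransparency.types false

noncomputable section

universe u

open CategoryTheory CategoryTheory.Limits AlgebraicGeometry TopologicalSpace Opposite TensorProduct

namespace Groth.Agent.An92.CartierHom

open QC70

/-- Base change along a surjection whose kernel kills the module is bijective. -/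
theorem bijective_of_isBaseChange {R S M P : Type u} [CommRing R] [CommRing S] [Algebra R S]
    [AddCommGroup M] [Module R M] [AddCommGroup P] [Module R P] [Module S P] [IsScalarTower R S P]
    (hs : Function.Surjective (algebraMap R S)) (g : M →ₗ[R] P) (hg : IsBaseChange S g)
    (hann : ∀ (r : R) (m : M), algebraMap R S r = 0 → r • m = 0) : Function.Bijective g := by
  have hJ : ∀ r ∈ RingHom.ker (algebraMap R S), ∀ m : M, r • m = 0 := fun r hr m => hann r m hr
  let J := RingHom.ker (algebraMap R S)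
  let e : (R ⧸ J) ≃ₐ[R] S := Ideal.quotientKerAlgEquivOfSurjective (f := Algebra.ofId R S) hs
  have hbot : (J • ⊤ : Submodule R M) = ⊥ :=
    le_bot_iff.1 (Submodule.smul_le.2 fun r hr m _ => (Submodule.mem_bot R).2 (hJ r hr m))
  let t : M ≃ₗ[R] P :=
    (Submodule.quotEquivOfEqBot _ hbot).symm ≪≫ₗ (TensorProduct.quotTensorEquivQuotSMul M J).symm ≪≫ₗ
      (LinearEquiv.rTensor M e.toLinearEquiv) ≪≫ₗ hg.equiv.restrictScalars R
  have ht : ∀ m, t m = g m := fun m => by
    show hg.equiv (LinearEquiv.rTensor M e.toLinearEquiv ((TensorProduct.quotTensorEquivQuotSMul M J).symm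
      (Submodule.Quotient.mk m))) = g m
    rw [TensorProduct.quotTensorEquivQuotSMul_symm_mk, LinearEquiv.rTensor_tmul]
    rw [show e.toLinearEquiv (1 : R ⧸ J) = 1 from map_one e, hg.equiv_tmul, one_smul]
  rw [show ⇑g = ⇑t from funext fun m => (ht m).symm]
  exact t.bijective

variable {X Z : Scheme.{u}} (i : Z ⟶ X) [IsClosedImmersion i] (F : X.Modules)

/-- A module killed by the ideal of a closed subscheme is the direct image of its inverse image. -/
theorem isIso_unit_of_killed
    (h : ∀ (U : X.affineOpens) (a : Γ(X, U.1)), a ∈ i.ker.ideal U → ∀ s : Γ(F, U.1), a • s = 0) :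
    IsIso ((Scheme.Modules.pullbackPushforwardAdjunction i).unit.app F) := by
  rw [FlatMor68.PullbackDescent.isIso_iff]
  intro y
  by_cases hy : y ∈ Set.range i
  swap
  · haveI : Subsingleton (F.presheaf.stalk y) := subsingleton_of_forall_eq 0 fun e => by
      obtain ⟨W, hyW, s, rfl⟩ := germM_exist e
      let C : X.Opens := ⟨(Set.range i)ᶜ, i.isClosedEmbedding.isClosed_range.isOpen_compl⟩
      obtain ⟨_, ⟨U, hU, rfl⟩, hyU, hUW⟩ :=
        X.isBasis_affineOpens.exists_subset_of_mem_open (show y ∈ W ⊓ C from ⟨hyW, hy⟩) (W ⊓ C).2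
      have h1 : (1 : Γ(X, U)) ∈ i.ker.ideal ⟨U, hU⟩ := by
        rw [Scheme.Hom.ker_apply, RingHom.mem_ker]
        have : i ⁻¹ᵁ U = ⊥ := eq_bot_iff.2 fun z hz => ((hUW hz).2 ⟨z, rfl⟩ : False).elim
        haveI : Subsingleton Γ(Z, i ⁻¹ᵁ U) := by
          rw [this]
          infer_instance
        exact Subsingleton.elim _ _
      rw [← germM_res (fun z hz => (hUW hz).1 : U ≤ W) hyU s,
        show res F (fun z hz => (hUW hz).1 : U ≤ W) s = 0 from
          (one_smul Γ(X, U) _).symm.trans (h ⟨U, hU⟩ 1 h1 _), germM_zero]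
    haveI h2 := KRR40.subsingleton_stalk_pushforward i ((Scheme.Modules.pullback i).obj F) hy
    exact ⟨fun a b _ => Subsingleton.elim (α := F.presheaf.stalk y) a b, fun b => ⟨0, @Subsingleton.elim _ h2 _ _⟩⟩
  obtain ⟨z, rfl⟩ := hy
  let N := (Scheme.Modules.pullback i).obj F
  letI : Algebra (X.presheaf.stalk (i z)) (Z.presheaf.stalk z) := (i.stalkMap z).hom.toAlgebra
  letI : Module (X.presheaf.stalk (i z)) (N.presheaf.stalk z) := Module.compHom _ (i.stalkMap z).hom
  haveI : IsScalarTower (X.presheaf.stalk (i z)) (Z.presheaf.stalk z) (N.presheaf.stalk z) :=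
    IsScalarTower.of_algebraMap_smul fun _ _ => rfl
  have hη : Function.Bijective (DCK91.pullη i F z) := by
    refine bijective_of_isBaseChange (S := Z.presheaf.stalk z) (i.stalkMap_surjective z) _
      (DCK91.isBaseChange_pullη i F z) fun r m hr => ?_
    obtain ⟨W, hzW, s, rfl⟩ := germM_exist m
    obtain ⟨W', hzW', a, rfl⟩ := TopCat.Presheaf.exists_germ_eq X.presheaf r
    have hr' : Z.presheaf.germ (i ⁻¹ᵁ W') z hzW' (i.app W' a) = 0 :=
      (Scheme.Hom.germ_stalkMap_apply i W' z hzW' a).symm.trans hr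
    obtain ⟨V, hzV, j₁, j₂, e⟩ := TopCat.Presheaf.germ_eq Z.presheaf z hzW' hzW' (i.app W' a) 0
      (hr'.trans (map_zero (Z.presheaf.germ (i ⁻¹ᵁ W') z hzW').hom).symm)
    have hzB : i z ∈ W ⊓ W' ⊓ Props58.HomO.bigOpen i V :=
      ⟨⟨hzW, hzW'⟩, (Props58.HomO.preimage_bigOpen i V).ge hzV⟩
    obtain ⟨_, ⟨U, hU, rfl⟩, hzU, hUW⟩ :=
      X.isBasis_affineOpens.exists_subset_of_mem_open hzB (W ⊓ W' ⊓ Props58.HomO.bigOpen i V).2
    have hUW₁ : U ≤ W := fun p hp => (hUW hp).1.1
    have hUW₂ : U ≤ W' := fun p hp => (hUW hp).1.2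
    have hUV : i ⁻¹ᵁ U ≤ V := fun p hp =>
      (Props58.HomO.preimage_bigOpen i V).le (show p ∈ i ⁻¹ᵁ Props58.HomO.bigOpen i V from (hUW hp).2)
    have ha : resO X hUW₂ a ∈ i.ker.ideal ⟨U, hU⟩ := by
      rw [Scheme.Hom.ker_apply, RingHom.mem_ker]
      show i.app U (X.presheaf.map (homOfLE hUW₂).op a) = 0
      rw [← ConcreteCategory.comp_apply, i.naturality, ConcreteCategory.comp_apply]
      have e2 := congrArg (Z.presheaf.map (homOfLE hUV).op) e
      rw [← ConcreteCategory.comp_apply, ← Functor.map_comp, map_zero, map_zero] at e2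
      exact e2
    rw [← germM_res hUW₁ hzU s, ← germ_resO hUW₂ hzU a, ← germM_smul, h ⟨U, hU⟩ _ ha, germM_zero]
  exact (Function.Bijective.of_comp_iff'
    (QC70.bijective_pushStalk i N z) _).1 hη

end Groth.Agent.An92.CartierHom
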