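import Groth.Agent.An92.CartierHom.Seq
import Groth.Agent.RFPlus43.Acyclic
import Groth.Agent.CohDer42.AcCrit
import Groth.Agent.Mod48.ExactDerived
import Groth.Agent.GSS45.ClosedHom
import Groth.Agent.Cx47.CechRes
import Groth.Agent.Curves2.Ample.ClosedPush
import Groth.Prelude.Def_Dual3

/-!
# `R Hom(O_D, O_X) = N[-1]` for an effective Cartier divisor
-/

set_option autoImplicit false
set_option linter.style.haveILetI false
set_option linter.unusedSectionVars false
set_option backward.isDefEq.respectTransparency false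

noncomputable section

universe u

open CategoryTheory CategoryTheory.Limits AlgebraicGeometry TopologicalSpace Opposite
open Groth.Agent.QC70

attribute [local instance] HasDerivedCategory.standard

namespace Groth.Agent.An92.CartierHom

open Amp73 (tm)

/-- The derived functor on a single object, computed by an injective resolution. -/
theorem nonempty_HD_RPlus {Z X : Scheme.{u}} (G : X.Modules ⥤ Z.Modules) [G.Additive]
    [EnoughInjectives X.Modules] (M : X.Modules) (R : InjectiveResolution M)
    (O : DerivedCategory.Plus X.Modules) (hO : Nonempty (O.obj ≅ DCoh.inD X M)) (j : ℤ) :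
    Nonempty (DCoh.HD (G.rightDerivedFunctorPlus.obj O).obj j ≅
      ((G.mapHomologicalComplex (ComplexShape.up ℤ)).obj R.cochainComplex).homology j) := by
  obtain ⟨e⟩ := hO
  let J : CochainComplex.Plus X.Modules := ⟨R.cochainComplex, 0, inferInstance⟩
  let q := (HomotopyCategory.Plus.quotient X.Modules).obj J
  haveI : IsIso (DerivedCategory.Q.map R.ι') :=
    (DerivedCategory.isIso_Q_map_iff_quasiIso _ _).2 inferInstance
  let e1 : (DerivedCategory.Plus.Qh.obj q).obj ≅ O.obj :=
    (DerivedCategory.quotientCompQhIso X.Modules).app R.cochainComplex ≪≫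
      (asIso (DerivedCategory.Q.map R.ι')).symm ≪≫
      ((DerivedCategory.singleFunctorIsoCompQ X.Modules 0).app M).symm ≪≫ e.symm
  let e2 : DerivedCategory.Plus.Qh.obj q ≅ O := (DerivedCategory.Plus.ι (C := X.Modules)).preimageIso e1
  have hunit : IsIso ((RFPlus43.unitK G).app q) := by
    refine (RFPlus43.isIso_unitK_iff G _).2 ?_
    have : ∀ n : ℤ, Injective (q.obj.as.X n) := fun n =>
      inferInstanceAs (Injective (R.cochainComplex.X n))
    infer_instance
  haveI := hunit
  exact ⟨(DerivedCategory.homologyFunctor Z.Modules j).mapIso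
      ((DerivedCategory.Plus.ι (C := Z.Modules)).mapIso (G.rightDerivedFunctorPlus.mapIso e2.symm) ≪≫
        (asIso ((RFPlus43.unitK G).app q)).symm) ≪≫
    (RFPlus43.GKHomologyIso G j).app J⟩

variable {X : Scheme.{u}} {I : X.IdealSheafData} {L : X.Modules}

instance : (Crv77.twist L).Additive := inferInstanceAs ((Mod48.tR (O := X.sheaf) L).Additive)

/-- An invertible module is flat on small opens. -/
theorem locally_flat (hL : PicF.IsInvertible L) (W : X.Opens) :
    ∃ S ∈ (Opens.grothendieckTopology X) W, ∀ ⦃V : X.Opens⦄ (i : V ⟶ W), S.arrows i →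
      Module.Flat (X.sheaf.obj.obj (op V)) ((Mod48.pre (O := X.sheaf) L).obj (op V)) := by
  let S : Sieve W := { arrows := fun V _ => ∃ (U : X.Opens) (e : Γ(L, U)), V ≤ U ∧ Var76.LineBundle.IsFrame L U e
                       downward_closed := by
                         rintro Y Z f ⟨U, e, hU, he⟩ g
                         exact ⟨U, e, g.le.trans hU, he⟩ }
  refine ⟨S, fun x hx => ?_, ?_⟩
  · obtain ⟨U, hxU, e, he⟩ := Mero90.exists_frame' hL x
    exact ⟨W ⊓ U, homOfLE inf_le_left, ⟨U, e, inf_le_right, he⟩, hx, hxU⟩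
  · rintro V i ⟨U, e, hVU, he⟩
    let g : X.sheaf.obj.obj (op V) →ₗ[X.sheaf.obj.obj (op V)] (Mod48.pre (O := X.sheaf) L).obj (op V) :=
      LinearMap.toSpanSingleton _ _ (Var76.LineBundle.res L hVU e)
    exact Module.Flat.of_linearEquiv (LinearEquiv.ofBijective g (he V hVU)).symm

/-- Twisting by an invertible module is exact. -/
theorem exact_twist (hL : PicF.IsInvertible L) :
    PreservesFiniteLimits (Crv77.twist L) ∧ PreservesFiniteColimits (Crv77.twist L) :=
  ((Functor.exact_tfae (Crv77.twist L)).out 0 3).1 fun S hS =>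
    Crv77.shortExact_tR_of_locally_flat (O := X.sheaf) L (locally_flat hL) hS

section Cx

variable {t : Γ(L, ⊤)} [Dual3.HasHomO I.subschemeι]

/-- `Hom(O_D, -)` pushed forward. -/
abbrev homOX : X.Modules ⥤ X.Modules :=
  Dual3.homO I.subschemeι ⋙ Scheme.Modules.pushforward I.subschemeι

/-- The counit on complexes. -/
def evCx (K : CochainComplex X.Modules ℤ) :
    ((Scheme.Modules.pushforward I.subschemeι).mapHomologicalComplex (ComplexShape.up ℤ)).obj
      (((Dual3.homO I.subschemeι).mapHomologicalComplex (ComplexShape.up ℤ)).obj K) ⟶ K where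
  f n := ev I.subschemeι (K.X n)
  comm' i j _ := ((Dual3.homOAdj I.subschemeι).counit.naturality (K.d i j)).symm

/-- `b ↦ b ⊗ t` on complexes. -/
def tmCx (t : Γ(L, ⊤)) (K : CochainComplex X.Modules ℤ) :
    K ⟶ ((Crv77.twist L).mapHomologicalComplex (ComplexShape.up ℤ)).obj K where
  f n := (tmRightNat t).app (K.X n)
  comm' i j _ := ((tmRightNat t).naturality (K.d i j)).symm

theorem shortExact_cx (ht : CutsOut I t) (K : CochainComplex X.Modules ℤ) [∀ n, Injective (K.X n)] :
    ∃ h : evCx (I := I) K ≫ tmCx t K = 0, (ShortComplex.mk (evCx (I := I) K) (tmCx t K) h).ShortExact := by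
  have h : evCx (I := I) K ≫ tmCx t K = 0 := by
    ext n : 1
    exact ev_tmRight ht (K.X n)
  exact ⟨h, HomologicalComplex.shortExact_of_degreewise_shortExact _ fun n => shortExact_ev ht (K.X n)⟩

end Cx

/-- On a single object, `H⁰` of the twist section is the twist section. -/
theorem homologyMap_tmCx_single (hL : PicF.IsInvertible L) (t : Γ(L, ⊤)) (M : X.Modules) (R : InjectiveResolution M) :
    haveI := (exact_twist hL).1
    haveI := (exact_twist hL).2
    ∃ (a : M ≅ R.cochainComplex.homology 0)
      (b : (Crv77.twist L).obj M ≅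
        (((Crv77.twist L).mapHomologicalComplex (ComplexShape.up ℤ)).obj R.cochainComplex).homology 0),
      a.hom ≫ HomologicalComplex.homologyMap (tmCx t R.cochainComplex) 0 = tmRight t M ≫ b.hom := by
  haveI := (exact_twist hL).1
  haveI := (exact_twist hL).2
  let T := (Crv77.twist L).mapHomologicalComplex (ComplexShape.up ℤ)
  let S := HomologicalComplex.single X.Modules (ComplexShape.up ℤ) 0
  let w := HomologicalComplex.singleMapHomologicalComplex (Crv77.twist L) (ComplexShape.up ℤ) 0
  let f : S.obj M ⟶ R.cochainComplex := R.ι'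
  haveI : QuasiIso f := inferInstanceAs (QuasiIso R.ι')
  haveI : QuasiIso (T.map f) := inferInstance
  haveI : IsIso (HomologicalComplex.homologyMap f 0) := inferInstance
  haveI : IsIso (HomologicalComplex.homologyMap (T.map f) 0) := inferInstance
  have hnat : f ≫ tmCx t R.cochainComplex = (S.map (tmRight t M) ≫ (w.app M).inv) ≫ T.map f := by
    have h1 : tmCx t (S.obj M) = S.map (tmRight t M) ≫ (w.app M).inv := by
      apply HomologicalComplex.from_single_hom_ext
      simp only [HomologicalComplex.comp_f, tmCx, S]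
      simp [w, HomologicalComplex.singleMapHomologicalComplex, HomologicalComplex.single_map_f_self,
        HomologicalComplex.singleObjXSelf, HomologicalComplex.singleObjXIsoOfEq]
      erw [Category.comp_id]
      rfl
    rw [← h1]
    refine HomologicalComplex.hom_ext _ _ fun n => ?_
    exact ((tmRightNat t).naturality (f.f n))
  let b₀ := (HomologicalComplex.singleObjHomologySelfIso (ComplexShape.up ℤ) 0 ((Crv77.twist L).obj M)).symm ≪≫
    HomologicalComplex.homologyMapIso (w.app M).symm 0 ≪≫ asIso (HomologicalComplex.homologyMap (T.map f) 0)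
  refine ⟨(HomologicalComplex.singleObjHomologySelfIso (ComplexShape.up ℤ) 0 M).symm ≪≫
    asIso (HomologicalComplex.homologyMap f 0), b₀, ?_⟩
  simp only [b₀, Iso.trans_hom, Iso.symm_hom, asIso_hom, Category.assoc, HomologicalComplex.homologyMapIso_hom]
  rw [← HomologicalComplex.homologyMap_comp, hnat, HomologicalComplex.homologyMap_comp,
    HomologicalComplex.homologyMap_comp, Category.assoc,
    ]
  exact (Category.assoc _ _ _).symm.trans ((congrArg (· ≫ _)
    (HomologicalComplex.singleObjHomologySelfIso_inv_naturality (ComplexShape.up ℤ) 0 (tmRight t M))).trans (Category.assoc _ _ _))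

/-- `R Hom(O_D, O_X) = N[-1]`. -/
theorem RHomO_structure (hI : BlowUp.IsEffCartierIdeal I) [Dual3.HasHomO I.subschemeι] [EnoughInjectives X.Modules]
    (hL : ClSub.IsInverseOf L (ClSub.idealMod I)) (O : DerivedCategory.Plus X.Modules)
    (hO : Nonempty (O.obj ≅ DCoh.inD X (Coh.structureModule X))) :
    (∀ j : ℤ, j ≠ 1 → IsZero (DCoh.HD ((Dual3.RHomOPlus I.subschemeι).obj O).obj j)) ∧
      Nonempty (DCoh.HD ((Dual3.RHomOPlus I.subschemeι).obj O).obj 1 ≅
        (Scheme.Modules.pullback I.subschemeι).obj L) := by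
  obtain ⟨hLi, t, ht⟩ := exists_cutsOut I hI hL
  haveI := (exact_twist hLi).1
  haveI := (exact_twist hLi).2
  let p := Scheme.Modules.pushforward I.subschemeι
  haveI : PreservesFiniteLimits p := GSS45.ClosedHom.preservesFiniteLimits_pushforward I.subschemeι
  haveI : PreservesFiniteColimits p := GSS45.ClosedHom.preservesFiniteColimits_pushforward I.subschemeι
  haveI : p.Faithful := QC70.faithful_pushforward I.subschemeι
  haveI : p.Full := ⟨fun {_ _} h => Props58.HomO.exists_map_eq h⟩
  let R := injectiveResolution (Coh.structureModule X)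
  let J := R.cochainComplex
  haveI : ∀ n : ℤ, Injective (J.X n) := fun n => inferInstanceAs (Injective (R.cochainComplex.X n))
  obtain ⟨h0, hS⟩ := shortExact_cx (I := I) ht J
  let HJ := ((Dual3.homO I.subschemeι).mapHomologicalComplex (ComplexShape.up ℤ)).obj J
  have hpush : ∀ j, Nonempty (p.obj (DCoh.HD ((Dual3.RHomOPlus I.subschemeι).obj O).obj j) ≅
      ((p.mapHomologicalComplex (ComplexShape.up ℤ)).obj HJ).homology j) := fun j => by
    obtain ⟨e⟩ := nonempty_HD_RPlus (Dual3.homO I.subschemeι) _ R O hO j
    exact ⟨p.mapIso e ≪≫ (Mod48.mapHomologyIsoCx p HJ j).symm⟩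
  have hJ : ∀ j : ℤ, j ≠ 0 → IsZero (J.homology j) := fun j hj =>
    ((HomologicalComplex.exactAt_single_obj (ComplexShape.up ℤ) 0 (Coh.structureModule X) j hj).isZero_homology).of_iso
      (asIso (HomologicalComplex.homologyMap R.ι' j)).symm
  have hTJ : ∀ j : ℤ, j ≠ 0 →
      IsZero ((((Crv77.twist L).mapHomologicalComplex (ComplexShape.up ℤ)).obj J).homology j) := fun j hj =>
    ((Crv77.twist L).map_isZero (hJ j hj)).of_iso (Mod48.mapHomologyIsoCx (Crv77.twist L) J j)
  obtain ⟨a, b, hab⟩ := homologyMap_tmCx_single hLi t (Coh.structureModule X) R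
  haveI : Mono (HomologicalComplex.homologyMap (tmCx t J) 0) := by
    haveI := mono_tmRight_structure ht
    rw [show HomologicalComplex.homologyMap (tmCx t J) 0 = a.inv ≫ tmRight t _ ≫ b.hom from by
      rw [← hab, Iso.inv_hom_id_assoc]]
    infer_instance
  have hdesc : ∀ {Z : I.subscheme.Modules}, IsZero (p.obj Z) → IsZero Z := fun {Z} h => by
    rw [IsZero.iff_id_eq_zero]
    exact p.map_injective (h.eq_of_src _ _)
  refine ⟨fun j hj => ?_, ?_⟩
  · obtain ⟨e⟩ := hpush j
    refine hdesc (IsZero.of_iso ?_ e)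
    by_cases hj0 : j = 0
    · subst hj0
      have hf : HomologicalComplex.homologyMap (evCx (I := I) J) 0 = 0 := by
        rw [← cancel_mono (HomologicalComplex.homologyMap (tmCx t J) 0), ← HomologicalComplex.homologyMap_comp,
          h0, HomologicalComplex.homologyMap_zero, zero_comp]
      exact (hS.homology_exact₁ (-1) 0 (by simp)).isZero_of_both_zeros ((hTJ (-1) (by decide)).eq_of_src _ _) hf
    · exact (hS.homology_exact₁ (j - 1) j (by simp)).isZero_of_both_zeros
        ((hTJ (j - 1) (by omega)).eq_of_src _ _) ((hJ j hj0).eq_of_tgt _ _)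
  · obtain ⟨e⟩ := hpush 1
    haveI : Epi (hS.δ 0 1 (by simp)) :=
      ((hS.homology_exact₁ 0 1 (by simp)).epi_f ((hJ 1 one_ne_zero).eq_of_tgt _ _))
    obtain ⟨h1, hex⟩ := exact_toSubscheme_twist ht
    haveI := Crv77.epi_toSubscheme I
    haveI : Epi ((Crv77.twist L).map (ClSub.toSubscheme I)) := inferInstance
    let c₁ := (hS.homology_exact₃ 0 1 rfl).gIsCokernel
    let c₂ := hex.gIsCokernel
    let q : ((p.mapHomologicalComplex (ComplexShape.up ℤ)).obj HJ).homology 1 ≅
        (Crv77.twist L).obj (ClSub.quotMod I) :=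
      IsColimit.coconePointUniqueUpToIso c₁ ((IsColimit.precomposeHomEquiv
        (parallelPair.ext a.symm b.symm (by
          simp only [parallelPair_obj_zero, parallelPair_obj_one, parallelPair_map_left, Iso.symm_hom]
          rw [← cancel_epi a.hom, reassoc_of% hab, Iso.hom_inv_id, Category.comp_id,
            Iso.hom_inv_id_assoc]) (by simp)) _).symm c₂)
    obtain ⟨e'⟩ := Curves2.Ample.nonempty_push_unit_tensor I.subschemeι hLi
    exact ⟨p.preimageIso (e ≪≫ q ≪≫ e')⟩

end Groth.Agent.An92.CartierHom
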