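import Groth.Agent.An92.CartierHom.Killed
import Groth.Agent.Curves2.IdealFrame
import Groth.Agent.Curves2.RatPoint
import Groth.Agent.Amp73.GlobGen
import Groth.Agent.QC70.InjLocal
import Groth.Agent.Cx47.CechRes
import Groth.Agent.Div89.NormalSheaf

/-!
# `0 ⟶ i_* Hom(O_D, F) ⟶ F ⟶ F ⊗ O(D)`, exact on the right for injective `F`
-/

set_option autoImplicit false
set_option linter.style.haveILetI false
set_option backward.isDefEq.respectTransparency.types false

noncomputable section

universe u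

open CategoryTheory CategoryTheory.Limits AlgebraicGeometry TopologicalSpace Opposite
open Groth.Agent.QC70

namespace Groth.Agent.An92.CartierHom

open Amp73 (tm)

local notation "IsFr" => Var76.LineBundle.IsFrame

section Killed

variable {X Z : Scheme.{u}} (i : Z ⟶ X) [IsClosedImmersion i] [Dual3.HasHomO i] (F : X.Modules)

/-- The counit `i_* Hom(O_Z, F) ⟶ F`. -/
abbrev ev : (Scheme.Modules.pushforward i).obj ((Dual3.homO i).obj F) ⟶ F := (Dual3.homOAdj i).counit.app F

/-- `i_* Hom(O_Z, F)` is the sheaf of sections killed by the ideal. -/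
theorem exists_iso_killed :
    ∃ e : (Scheme.Modules.pushforward i).obj ((Dual3.homO i).obj F) ≅ (Props58.HomO.killed i F).mod,
      e.hom ≫ (Props58.HomO.killed i F).ι = ev i F := by
  let K := (Props58.HomO.killed i F).mod
  haveI : IsIso ((Scheme.Modules.pullbackPushforwardAdjunction i).unit.app K) :=
    isIso_unit_of_killed i K (Props58.HomO.killed_ann i F)
  let u := asIso ((Scheme.Modules.pullbackPushforwardAdjunction i).unit.app K)
  let ε := ev i F
  let ρ : (Scheme.Modules.pushforward i).obj ((Dual3.homO i).obj F) ⟶ K :=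
    (Props58.HomO.killed i F).lift ε (Props58.HomO.push_mem_killed i F _ ε)
  have hρ : ρ ≫ (Props58.HomO.killed i F).ι = ε := (Props58.HomO.killed i F).lift_ι ε _
  let σ := (Dual3.homOAdj i).homEquiv _ _ (u.inv ≫ (Props58.HomO.killed i F).ι)
  have hσ : (Scheme.Modules.pushforward i).map σ ≫ ε = u.inv ≫ (Props58.HomO.killed i F).ι :=
    ((Dual3.homOAdj i).homEquiv_counit _ _ σ).symm.trans (Equiv.symm_apply_apply _ _)
  let τ : K ⟶ _ := u.hom ≫ (Scheme.Modules.pushforward i).map σ
  have h1 : τ ≫ ρ = 𝟙 K := by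
    rw [← cancel_mono (Props58.HomO.killed i F).ι, Category.assoc, hρ, Category.assoc, hσ,
      Iso.hom_inv_id_assoc, Category.id_comp]
  have h2 : ρ ≫ τ = 𝟙 _ := by
    obtain ⟨φ, hφ⟩ := Props58.HomO.exists_map_eq (ρ ≫ τ)
    have h3 : (Scheme.Modules.pushforward i).map φ ≫ ε = ε := by
      rw [hφ, Category.assoc, ← hρ, reassoc_of% h1]
    have h4 : φ = 𝟙 _ := by
      apply ((Dual3.homOAdj i).homEquiv _ _).symm.injective
      rw [Adjunction.homEquiv_counit, Adjunction.homEquiv_counit, CategoryTheory.Functor.map_id, Category.id_comp]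
      exact h3
    rw [← hφ, h4, CategoryTheory.Functor.map_id]
  exact ⟨⟨ρ, τ, h2, h1⟩, hρ⟩

end Killed

variable {X : Scheme.{u}} {L : X.Modules}

/-- `b ↦ b ⊗ t` for a global section `t` of `L`. -/
def tmRight (t : Γ(L, ⊤)) (N : X.Modules) : N ⟶ CohB1.tensorMod N L :=
  ⟨PresheafOfModules.homMk (M₁ := N.val) (M₂ := (CohB1.tensorMod N L).val)
    { app := fun U => AddCommGrpCat.ofHom
        { toFun := fun (y : Γ(N, U.unop)) => tm N L y (res L (le_top : U.unop ≤ ⊤) t)
          map_zero' := Amp73.tm_zero_left _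
          map_add' := fun y y' => Amp73.tm_add_left y y' _ }
      naturality := fun U V i => by
        ext y
        show tm N L (res N i.unop.le y) (res L (le_top : V.unop ≤ ⊤) t) =
          res (CohB1.tensorMod N L) i.unop.le (tm N L y (res L (le_top : U.unop ≤ ⊤) t))
        exact ((Amp73.res_tm i.unop.le (show Γ(N, U.unop) from y) (res L (le_top : U.unop ≤ ⊤) t)).trans
          (congrArg (tm N L (res N i.unop.le (show Γ(N, U.unop) from y))) (res_res _ _ _))).symm }
    (fun _ r y => Amp73.tm_smul_left r y _)⟩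

theorem tmRight_app (t : Γ(L, ⊤)) (N : X.Modules) (U : X.Opens) (y : Γ(N, U)) :
    (tmRight t N).app U y = tm N L y (res L le_top t) := rfl

/-- `F ⟶ F ⊗ L`, natural in `F`. -/
def tmRightNat (t : Γ(L, ⊤)) : 𝟭 X.Modules ⟶ Crv77.twist L where
  app := tmRight t
  naturality := fun A B g => Scheme.Modules.hom_ext _ _ fun U => by
    ext y
    show tm B L (g.app U y) (res L le_top t) = (Crv77.twistMap g L).app U (tm A L y (res L le_top t))
    exact (Crv77.twist_map_tm g L U y (res L le_top t)).symm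

variable (I : X.IdealSheafData)

/-- Local data of a section of `L` cutting out `I`: on an affine chart a frame `e`, a regular generator `f`
with `t = f e`. -/
def CutsOut (t : Γ(L, ⊤)) : Prop :=
  ∀ x : X, ∃ (W : X.affineOpens) (f : Γ(X, W.1)) (e : Γ(L, W.1)), x ∈ W.1 ∧ f ∈ nonZeroDivisors Γ(X, W.1) ∧
    I.ideal W = Ideal.span {f} ∧ IsFr L W.1 e ∧ res L le_top t = f • e

/-- The section of an inverse of the ideal module. -/
theorem exists_cutsOut (hI : BlowUp.IsEffCartierIdeal I) (hL : ClSub.IsInverseOf L (ClSub.idealMod I)) :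
    PicF.IsInvertible L ∧ ∃ t : Γ(L, ⊤), CutsOut I t := by
  obtain ⟨η⟩ := hL
  have hinv := (Curves2.isInvertible_idealMod_iff I).2 hI
  have hLi : PicF.IsInvertible L := by
    obtain ⟨hd, ⟨a⟩⟩ := Div89.exists_dual_tensor hinv
    obtain ⟨e⟩ := Div89.inverse_unique a η
    exact EGA73.isInvertible_of_iso e hd
  let η' : CohB1.tensorMod (ClSub.idealMod I) L ≅ Coh.structureModule X := EGA73.tensComm _ _ ≪≫ η
  let u : Γ(CohB1.tensorMod (ClSub.idealMod I) L, ⊤) := η'.inv.app ⊤ (toUnit (1 : Γ(X, ⊤)))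
  refine ⟨hLi, (Curves2.idealTwistι I hLi).app ⊤ u, fun x => ?_⟩
  obtain ⟨U, hxU, f, hf, hIU⟩ := hI x
  obtain ⟨U', hxU', e, he⟩ := Mero90.exists_frame' hLi x
  obtain ⟨W, hxW, hWle⟩ := Div89.exists_affine_le (show x ∈ U.1 ⊓ U' from ⟨hxU, hxU'⟩)
  have hWU : W.1 ≤ U.1 := hWle.trans inf_le_left
  have hWU' : W.1 ≤ U' := hWle.trans inf_le_right
  let f' : Γ(X, W.1) := resO X hWU f
  have hI' : I.ideal W = Ideal.span {f'} := Div89.ideal_res_span hWU hIU
  have hf' : f' ∈ nonZeroDivisors Γ(X, W.1) := by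
    refine mem_nonZeroDivisors_iff_right.2 fun a ha => ?_
    refine TopCat.Presheaf.section_ext X.sheaf W.1 a 0 fun y hy => ?_
    have h1 := congrArg (X.presheaf.germ W.1 y hy) ha
    rw [map_mul, map_zero, germ_resO] at h1
    show (X.presheaf.germ W.1 y hy).hom a = (X.presheaf.germ W.1 y hy).hom 0
    rw [map_zero]
    exact mem_nonZeroDivisors_iff_right.1 (Div89.germ_mem_nonZeroDivisors U hf y (hWU hy)) _ h1
  obtain ⟨g, hg⟩ := Curves2.exists_idealSect_of_mem I W (hI' ▸ Ideal.subset_span rfl : f' ∈ I.ideal W)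
  have hgF := Curves2.isFrame_of_span I W hf' hI' g hg
  obtain ⟨i₀, hi₀⟩ := Amp73.exists_eq_tm_frame (L := ClSub.idealMod I) he hWU'
    (res (CohB1.tensorMod (ClSub.idealMod I) L) le_top u)
  obtain ⟨c, rfl⟩ := (hgF W.1 le_rfl).2 i₀
  dsimp only at hi₀
  rw [show Var76.LineBundle.res (ClSub.idealMod I) (le_rfl : W.1 ≤ W.1) g = g from QC70.res_self g] at hi₀
  have hc : IsUnit c := by
    refine IsUnit.of_mul_eq_one
      (show Γ(X, W.1) from η'.hom.app W.1 (tm (ClSub.idealMod I) L g (res L hWU' e))) ?_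
    have h := congrArg (η'.hom.app W.1) hi₀
    rw [Amp73.tm_smul_left, Scheme.Modules.Hom.app_smul, Mero90.app_res,
      show η'.hom.app ⊤ u = toUnit (1 : Γ(X, ⊤)) from
        congrArg (fun φ : Coh.structureModule X ⟶ Coh.structureModule X => φ.app ⊤ (toUnit (1 : Γ(X, ⊤))))
          η'.inv_hom_id] at h
    exact h.trans (map_one (X.presheaf.map _).hom)
  refine ⟨W, f', c • res L hWU' e, hxW, hf', hI', fun V hV => ?_, ?_⟩
  · have hcV : IsUnit (resO X hV c) := hc.map (X.presheaf.map (homOfLE hV).op).hom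
    have : (fun a : Γ(X, V) => a • res L hV (c • res L hWU' e)) =
        (fun a : Γ(X, V) => a • res L (hV.trans hWU') e) ∘ (fun a => a * resO X hV c) := by
      funext a
      simp only [Function.comp_apply, res_smul, res_res, mul_smul]
    change Function.Bijective (fun a : Γ(X, V) => a • res L hV (c • res L hWU' e))
    rw [this]
    exact (he V (hV.trans hWU')).comp (Units.mulRight hcV.unit).bijective
  · refine (Mero90.app_res (Curves2.idealTwistι I hLi) (le_top : W.1 ≤ ⊤) u).symm.trans ?_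
    refine (congrArg ((Curves2.idealTwistι I hLi).app W.1) hi₀.symm).trans ?_
    erw [Curves2.idealTwistι_tm, Omega57.idealSect_smul, hg, mul_comm, mul_smul]

variable {I} {t : Γ(L, ⊤)}

/-- The regular generator cancels on all smaller opens. -/
theorem eq_of_mul_eq {W : X.affineOpens} {f : Γ(X, W.1)} (hf : f ∈ nonZeroDivisors Γ(X, W.1))
    {V : X.Opens} (hV : V ≤ W.1) {a b : Γ(X, V)} (h : a * resO X hV f = b * resO X hV f) : a = b := by
  refine TopCat.Presheaf.section_ext X.sheaf V a b fun y hy => ?_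
  have h1 := congrArg (X.presheaf.germ V y hy) h
  rw [map_mul, map_mul, germ_resO] at h1
  show (X.presheaf.germ V y hy).hom a = (X.presheaf.germ V y hy).hom b
  refine sub_eq_zero.1 (mem_nonZeroDivisors_iff_right.1
    (Div89.germ_mem_nonZeroDivisors W hf y (hV hy)) _ ?_)
  rw [sub_mul, sub_eq_zero]
  exact h1

/-- The kernel of `F ⟶ F ⊗ L` consists of the sections killed by `I`. -/
theorem mem_killed_iff (ht : CutsOut I t) (F : X.Modules) (V : X.Opens) (b : Γ(F, V)) :
    b ∈ (Props58.HomO.killed I.subschemeι F).obj V ↔ (tmRight t F).app V b = 0 := by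
  constructor
  · intro hb
    refine section_ext _ _ _ fun p hp => ?_
    obtain ⟨W, f, e, hpW, -, hI', he, hte⟩ := ht p
    obtain ⟨W', hpW', hle⟩ := Div89.exists_affine_le (show p ∈ V ⊓ W.1 from ⟨hp, hpW⟩)
    refine ⟨W'.1, hle.trans inf_le_left, hpW', ?_⟩
    rw [← app_res, res_zero, tmRight_app]
    have hmem : resO X (hle.trans inf_le_right) f ∈ I.subschemeι.ker.ideal W' := by
      rw [I.ker_subschemeι, Div89.ideal_res_span (hle.trans inf_le_right) hI']
      exact Ideal.subset_span rfl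
    rw [show res L (le_top : W'.1 ≤ ⊤) t = res L (hle.trans inf_le_right) (f • e) from by rw [← hte, res_res],
      res_smul, Amp73.tm_smul_right, ← Amp73.tm_smul_left,
      hb W' (hle.trans inf_le_left) _ hmem, Amp73.tm_zero_left]
  · intro hb
    refine (Props58.HomO.killed I.subschemeι F).of_locally b fun p hp => ?_
    obtain ⟨W, f, e, hpW, -, hI', he, hte⟩ := ht p
    obtain ⟨W', hpW', hle⟩ := Div89.exists_affine_le (show p ∈ V ⊓ W.1 from ⟨hp, hpW⟩)
    refine ⟨W'.1, hle.trans inf_le_left, hpW', ?_⟩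
    refine Props58.HomO.mem_killed_of_affine I.subschemeι F W' _ ?_
    rw [I.ker_subschemeι, Div89.ideal_res_span (hle.trans inf_le_right) hI']
    intro a ha
    obtain ⟨d, rfl⟩ := Ideal.mem_span_singleton'.1 ha
    have h0 : (tmRight t F).app W'.1 (res F (hle.trans inf_le_left) b) = 0 := by
      rw [app_res, hb, res_zero]
    rw [tmRight_app,
      show res L (le_top : W'.1 ≤ ⊤) t = res L (hle.trans inf_le_right) (f • e) from by rw [← hte, res_res],
      res_smul, Amp73.tm_smul_right, ← Amp73.tm_smul_left,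
      ← Amp73.tm_zero_left (L := F) (res L (hle.trans inf_le_right) e)] at h0
    have h1 := Amp73.tm_frame_injective he (hle.trans inf_le_right) _ _ h0
    rw [mul_smul]
    exact (congrArg (d • ·) h1).trans (smul_zero _)

variable [Dual3.HasHomO I.subschemeι]

theorem ev_tmRight (ht : CutsOut I t) (F : X.Modules) : ev I.subschemeι F ≫ tmRight t F = 0 :=
  Scheme.Modules.hom_ext _ _ fun V => by
    ext s
    exact (mem_killed_iff ht F V ((ev I.subschemeι F).app V s)).1
      (Props58.HomO.push_mem_killed I.subschemeι F _ (ev I.subschemeι F) V s)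

theorem mono_ev (F : X.Modules) : Mono (ev I.subschemeι F) := by
  obtain ⟨e, he⟩ := exists_iso_killed I.subschemeι F
  rw [← he]
  infer_instance

/-- `i_* Hom(O_D, F)` is the kernel of `F ⟶ F ⊗ L`. -/
theorem exact_ev (ht : CutsOut I t) (F : X.Modules) :
    (ShortComplex.mk _ _ (ev_tmRight ht F)).Exact := by
  obtain ⟨e, he⟩ := exists_iso_killed I.subschemeι F
  haveI := mono_ev (I := I) F
  refine ShortComplex.exact_of_f_is_kernel _ (KernelFork.IsLimit.ofι' _ _ fun g hg => ?_)
  refine ⟨(Props58.HomO.killed I.subschemeι F).lift g (fun V s => (mem_killed_iff ht F V _).2 ?_) ≫ e.inv, ?_⟩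
  · exact congrArg (fun φ => Scheme.Modules.Hom.app φ V s) hg
  · have hh : e.inv ≫ ev I.subschemeι F = (Props58.HomO.killed I.subschemeι F).ι := by
      rw [← he, Iso.inv_hom_id_assoc]
    show (_ ≫ e.inv) ≫ ev I.subschemeι F = g
    exact (Category.assoc _ _ _).trans ((congrArg (_ ≫ ·) hh).trans (LocalSubmod.lift_ι _ _ _))

omit [Dual3.HasHomO I.subschemeι] in
/-- Injective modules are divisible by regular sections. -/
theorem exists_smul_eq (F : X.Modules) [Injective F] {W : X.affineOpens} {f : Γ(X, W.1)}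
    (hf : f ∈ nonZeroDivisors Γ(X, W.1)) {V : X.Opens} (hV : V ≤ W.1) (b : Γ(F, V)) :
    ∃ c : Γ(F, V), resO X hV f • c = b := by
  haveI : Injective (F.restrict V.ι) := injective_restrict V.ι F
  let f₁ : Γ(X, V.ι ''ᵁ ⊤) := resO X (V.ι_image_top.le.trans hV) f
  let μ : unitMod V.toScheme ⟶ unitMod V.toScheme :=
    unitHom (toUnit (U := (⊤ : V.toScheme.Opens)) (show Γ(V.toScheme, ⊤) from f₁))
  haveI : Mono μ := by
    refine mono_of_app_injective _ fun T => ?_
    intro a a' h
    refine eq_of_mul_eq (a := (show Γ(X, V.ι ''ᵁ T) from a)) (b := (show Γ(X, V.ι ''ᵁ T) from a')) hf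
      ((V.ι.image_mono le_top).trans (V.ι_image_top.le.trans hV)) ?_
    have e1 : resO X (V.ι.image_mono (le_top : T ≤ ⊤)) f₁ =
        resO X ((V.ι.image_mono le_top).trans (V.ι_image_top.le.trans hV)) f := by
      show X.presheaf.map _ (X.presheaf.map _ f) = _
      rw [← ConcreteCategory.comp_apply, ← Functor.map_comp]
      rfl
    rw [← e1]
    exact h
  let ψ := Injective.factorThru (unitHom (N := F.restrict V.ι) (res F V.ι_image_top.le b)) μ
  refine ⟨res F V.ι_image_top.ge (show Γ(F, V.ι ''ᵁ ⊤) from ψ.app ⊤ (toUnit 1)), ?_⟩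
  have h0 := congrArg (fun φ => Scheme.Modules.Hom.app φ ⊤ (toUnit 1))
    (Injective.comp_factorThru (unitHom (N := F.restrict V.ι) (res F V.ι_image_top.le b)) μ)
  rw [show (μ ≫ ψ).app ⊤ (toUnit 1) = ψ.app ⊤ (μ.app ⊤ (toUnit 1)) from rfl, unitHom_app_one,
    unitHom_app_one] at h0
  have h1 : f₁ • (show Γ(F, V.ι ''ᵁ ⊤) from ψ.app ⊤ (toUnit 1)) = res F V.ι_image_top.le b := by
    refine Eq.trans ?_ h0
    refine Eq.trans ?_ (congrArg (ψ.app ⊤) (mul_one (show Γ(V.toScheme, ⊤) from f₁)))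
    refine Eq.trans ?_ (Scheme.Modules.Hom.app_smul ψ (show Γ(V.toScheme, ⊤) from f₁) (toUnit 1)).symm
    refine Eq.symm ((Scheme.Modules.smul_restrictAppIso_hom_apply V.ι F ⊤
      (show Γ(V.toScheme, ⊤) from f₁) (ψ.app ⊤ (toUnit 1))).trans ?_)
    rw [V.ι_appIso]
    rfl
  have h2 := congrArg (res F V.ι_image_top.ge) h1
  rw [res_smul, res_res, res_self] at h2
  refine Eq.trans ?_ h2
  congr 1
  show X.presheaf.map _ f = X.presheaf.map _ (X.presheaf.map _ f)
  rw [← ConcreteCategory.comp_apply, ← Functor.map_comp]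
  rfl

omit [Dual3.HasHomO I.subschemeι] in
theorem epi_tmRight (ht : CutsOut I t) (F : X.Modules) [Injective F] : Epi (tmRight t F) := by
  refine epi_of_locally_surjective _ fun V z p hp => ?_
  obtain ⟨W, f, e, hpW, hf, -, he, hte⟩ := ht p
  obtain ⟨b, hb⟩ := Amp73.exists_eq_tm_frame (L := F) he (inf_le_right : V ⊓ W.1 ≤ W.1)
    (res _ inf_le_left z)
  obtain ⟨c, hc⟩ := exists_smul_eq F hf (inf_le_right : V ⊓ W.1 ≤ W.1) b
  refine ⟨V ⊓ W.1, inf_le_left, c, ⟨hp, hpW⟩, ?_⟩
  rw [tmRight_app, show res L (le_top : V ⊓ W.1 ≤ ⊤) t = res L inf_le_right (f • e) from by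
    rw [← hte, res_res], res_smul, Amp73.tm_smul_right, ← Amp73.tm_smul_left, hc]
  exact hb

/-- `0 ⟶ i_* Hom(O_D, F) ⟶ F ⟶ F ⊗ L ⟶ 0` for injective `F`. -/
theorem shortExact_ev (ht : CutsOut I t) (F : X.Modules) [Injective F] :
    (ShortComplex.mk _ _ (ev_tmRight ht F)).ShortExact :=
  { exact := exact_ev ht F
    mono_f := mono_ev F
    epi_g := epi_tmRight ht F }

omit [Dual3.HasHomO I.subschemeι] in
theorem exact_toSubscheme_twist {s : Γ(L, ⊤)} (ht : CutsOut I s) :
    ∃ h : tmRight s (Coh.structureModule X) ≫ (Crv77.twist L).map (ClSub.toSubscheme I) = 0,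
      (ShortComplex.mk _ _ h).Exact := by
  let O := Coh.structureModule X
  let π : CohB1.tensorMod O L ⟶ CohB1.tensorMod (ClSub.quotMod I) L := Crv77.twistMap (ClSub.toSubscheme I) L
  have hπ : ∀ (V : X.Opens) (b : Γ(O, V)) (e : Γ(L, V)),
      π.app V (tm O L b e) = tm (ClSub.quotMod I) L ((ClSub.toSubscheme I).app V b) e := fun V b e =>
    Crv77.twist_map_tm (ClSub.toSubscheme I) L V b e
  have hzero : tmRight s O ≫ π = 0 := Scheme.Modules.hom_ext _ _ fun V => by
    ext b
    change π.app V ((tmRight s O).app V b) = 0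
    refine section_ext _ _ _ fun p hp => ?_
    obtain ⟨W, f, e, hpW, -, hI', he, hte⟩ := ht p
    obtain ⟨W', hpW', hle⟩ := Div89.exists_affine_le (show p ∈ V ⊓ W.1 from ⟨hp, hpW⟩)
    refine ⟨W'.1, hle.trans inf_le_left, hpW', ?_⟩
    rw [← app_res, res_zero, ← app_res, tmRight_app,
      show res L (le_top : W'.1 ≤ ⊤) s = res L (hle.trans inf_le_right) (f • e) from by rw [← hte, res_res],
      res_smul, Amp73.tm_smul_right, ← Amp73.tm_smul_left, hπ, Scheme.Modules.Hom.app_smul]
    have hmem : resO X (hle.trans inf_le_right) f ∈ I.subschemeι.ker.ideal W' := by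
      rw [I.ker_subschemeι, Div89.ideal_res_span (hle.trans inf_le_right) hI']
      exact Ideal.subset_span rfl
    have : resO X (hle.trans inf_le_right) f • (ClSub.toSubscheme I).app W'.1 (res O (hle.trans inf_le_left) b) = 0 := by
      refine (QCqs72.pushforward_smul (M := Coh.structureModule I.subscheme) I.subschemeι _ _).trans ?_
      rw [show I.subschemeι.app W'.1 (resO X (hle.trans inf_le_right) f) = 0 from
        I.subschemeι.ideal_ker_le W' hmem, zero_smul]
      rfl
    rw [this, Amp73.tm_zero_left]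
  refine ⟨hzero, Cx47.exact_of_locally _ _ hzero fun V z hz p => ?_⟩
  obtain ⟨W, f, e, hpW, -, hI', he, hte⟩ := ht p.1
  obtain ⟨W', hpW', hle⟩ := Div89.exists_affine_le (show p.1 ∈ V ⊓ W.1 from ⟨p.2, hpW⟩)
  obtain ⟨b, hb⟩ := Amp73.exists_eq_tm_frame (L := O) he (hle.trans inf_le_right)
    (res (CohB1.tensorMod O L) (hle.trans inf_le_left) z)
  have h0 : π.app W'.1 (res (CohB1.tensorMod O L) (hle.trans inf_le_left) z) = 0 := by
    rw [app_res, show π.app V z = 0 from hz, res_zero]
  rw [← hb, hπ, ← Amp73.tm_zero_left (L := ClSub.quotMod I) (res L (hle.trans inf_le_right) e)] at h0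
  have h1 := Amp73.tm_frame_injective he (hle.trans inf_le_right) _ _ h0
  have h2 : (show Γ(X, W'.1) from b) ∈ I.ideal W' := by
    rw [← I.ker_subschemeι_app W']
    exact h1
  rw [Div89.ideal_res_span (hle.trans inf_le_right) hI'] at h2
  obtain ⟨d, hd⟩ := Ideal.mem_span_singleton'.1 h2
  refine ⟨W'.1, hle.trans inf_le_left, hpW', (toUnit d : Γ(O, W'.1)), ?_⟩
  refine Eq.trans ?_ hb
  rw [tmRight_app, show res L (le_top : W'.1 ≤ ⊤) s = res L (hle.trans inf_le_right) (f • e) from by
    rw [← hte, res_res], res_smul, Amp73.tm_smul_right, ← Amp73.tm_smul_left]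
  congr 1
  exact (mul_comm _ _).trans hd

omit [Dual3.HasHomO I.subschemeι] in
theorem mono_tmRight_structure {s : Γ(L, ⊤)} (ht : CutsOut I s) :
    Mono (tmRight s (Coh.structureModule X)) := by
  refine mono_of_app_injective _ fun V => ?_
  rw [injective_iff_map_eq_zero]
  intro b hb
  refine section_ext _ _ _ fun p hp => ?_
  obtain ⟨W, f, e, hpW, hf, -, he, hte⟩ := ht p
  refine ⟨V ⊓ W.1, inf_le_left, ⟨hp, hpW⟩, ?_⟩
  rw [res_zero]
  have h0 : (tmRight s (Coh.structureModule X)).app (V ⊓ W.1) (res _ inf_le_left b) = 0 := by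
    rw [app_res, hb, res_zero]
  rw [tmRight_app, show res L (le_top : V ⊓ W.1 ≤ ⊤) s = res L inf_le_right (f • e) from by rw [← hte, res_res],
    res_smul, Amp73.tm_smul_right, ← Amp73.tm_smul_left,
    ← Amp73.tm_zero_left (L := Coh.structureModule X) (res L (inf_le_right : V ⊓ W.1 ≤ W.1) e)] at h0
  have h1 := Amp73.tm_frame_injective he inf_le_right _ _ h0
  refine eq_of_mul_eq (b := (0 : Γ(X, V ⊓ W.1))) hf inf_le_right ?_
  rw [zero_mul, mul_comm]
  exact h1

end Groth.Agent.An92.CartierHom
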